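import Groth.Agent.QuadP1.Coh
import Groth.Agent.ProperFin.Descend

/-!
# Twists of the kernel of an epimorphism `O(1,0)^r ⊕ O(0,1)^r ⟶ O(1,1)^r`
-/

set_option autoImplicit false

universe u

open CategoryTheory Limits AlgebraicGeometry
open Groth.Agent

noncomputable section

namespace Groth.Agent.QuadP1

variable (k : Type u) [Field k]

/-- `(∐ O(a,b))(c,d) ≅ ∐ O(a+c, b+d)` and vanishing of its cohomology -/
theorem subsingleton_twQ_coprod {r : ℕ} {Q : (Quad k).Modules} {a b : ℤ}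
    (hQ : Nonempty (Q ≅ ∐ fun _ : Fin r => OO k a b)) (c d : ℤ) (n : ℕ)
    (h : Subsingleton (Coh.HH (Quad k) (OO k (a + c) (b + d)) n)) :
    Subsingleton (Coh.HH (Quad k) ((twQ k c d).obj Q) n) := by
  letI := quadOver k
  obtain ⟨e⟩ := hQ
  haveI : PreservesColimitsOfSize.{u, u} (twQ k c d) :=
    ProjTwist.Pn.preservesColimits_tensorFlip _ (OO k c d)
  haveI : PreservesColimitsOfSize.{0, 0} (twQ k c d) := preservesColimitsOfSize_shrink.{0, u, 0, u} _
  let i : (twQ k c d).obj Q ≅ ∐ fun _ : Fin r => OO k (a + c) (b + d) :=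
    (twQ k c d).mapIso e ≪≫ PreservesCoproduct.iso (twQ k c d) (fun _ : Fin r => OO k a b) ≪≫
      Sigma.mapIso fun _ => (nonempty_OO_tensor k a b c d).some
  exact subsingleton_hh_of_iso i.symm n (subsingleton_coprod_const k (r := r) _ n h)

/-- an isomorphism on cohomology, linearly -/
def isoL {X : Scheme.{u}} [X.Over (Spec (CommRingCat.of k))] {M N : X.Modules} (e : M ≅ N) (n : ℕ) :
    Coh.HH X M n ≃ₗ[k] Coh.HH X N n :=
  LinearEquiv.ofLinearMap (CohLES.mapL k e.hom n) (CohLES.mapL k e.inv n)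
    (by rw [← CohLES.mapL_comp, e.inv_hom_id, CohLES.mapL_id])
    (by rw [← CohLES.mapL_comp, e.hom_inv_id, CohLES.mapL_id])

theorem finrank_biprod {X : Scheme.{u}} [X.Over (Spec (CommRingCat.of k))] (M N : X.Modules) (n : ℕ)
    (hM : Module.Finite k (Coh.HH X M n)) (hN : Module.Finite k (Coh.HH X N n)) :
    Module.Finite k (Coh.HH X (M ⊞ N) n) ∧
      Module.finrank k (Coh.HH X (M ⊞ N) n) =
        Module.finrank k (Coh.HH X M n) + Module.finrank k (Coh.HH X N n) := by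
  let f : Coh.HH X (M ⊞ N) n ≃ₗ[k] Coh.HH X M n × Coh.HH X N n :=
    LinearEquiv.ofLinearMap ((CohLES.mapL k biprod.fst n).prod (CohLES.mapL k biprod.snd n))
      ((CohLES.mapL k biprod.inl n).coprod (CohLES.mapL k biprod.inr n))
      (by
        rw [LinearMap.comp_coprod, LinearMap.prod_comp, LinearMap.prod_comp, ← CohLES.mapL_comp, ← CohLES.mapL_comp,
          ← CohLES.mapL_comp, ← CohLES.mapL_comp, biprod.inl_fst, biprod.inl_snd, biprod.inr_fst, biprod.inr_snd,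
          CohLES.mapL_id, CohLES.mapL_id, CohLES.mapL_zero, CohLES.mapL_zero]
        exact LinearMap.ext fun x => by simp)
      (by
        rw [LinearMap.coprod_comp_prod, ← CohLES.mapL_comp, ← CohLES.mapL_comp, ← CohLES.mapL_add, biprod.total,
          CohLES.mapL_id])
  exact ⟨Module.Finite.equiv f.symm, f.finrank_eq.trans Module.finrank_prod⟩

variable {k}
variable {r : ℕ} {Q₁ Q₂ P₂ : (Quad k).Modules}
  (hQ₁ : Nonempty (Q₁ ≅ ∐ fun _ : Fin r => OO k 1 0))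
  (hQ₂ : Nonempty (Q₂ ≅ ∐ fun _ : Fin r => OO k 0 1))
  (hP₂ : Nonempty (P₂ ≅ ∐ fun _ : Fin r => OO k 1 1))
  (m : Q₁ ⊞ Q₂ ⟶ P₂) [Epi m]

/-- the defining sequence -/
abbrev kerSeq : ShortComplex (Quad k).Modules := ShortComplex.mk (kernel.ι m) m (kernel.condition m)

theorem shortExact_kerSeq : (kerSeq m).ShortExact :=
  { exact := ShortComplex.exact_of_f_is_kernel _ (kernelIsKernel m) }

theorem shortExact_twist (c d : ℤ) : ((kerSeq m).map (twQ k c d)).ShortExact :=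
  ProjTwist.shortExact_tensor (isInvertible_OO k c d) (shortExact_kerSeq m)

include hQ₁ hQ₂ in
theorem subsingleton_source (c d : ℤ) (n : ℕ) (h₁ : Subsingleton (Coh.HH (Quad k) (OO k (1 + c) d) n))
    (h₂ : Subsingleton (Coh.HH (Quad k) (OO k c (1 + d)) n)) :
    Subsingleton (Coh.HH (Quad k) ((twQ k c d).obj (Q₁ ⊞ Q₂)) n) := by
  letI := quadOver k
  haveI : (twQ k c d).Additive := Functor.additive_of_preserves_binary_products _
  haveI := preservesBinaryBiproducts_of_preservesBinaryProducts (twQ k c d)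
  exact subsingleton_hh_of_iso ((twQ k c d).mapBiprod Q₁ Q₂).symm n (subsingleton_biprod k _ _ n
    (subsingleton_twQ_coprod k hQ₁ c d n (by rwa [zero_add]))
    (subsingleton_twQ_coprod k hQ₂ c d n (by rwa [zero_add])))

include hQ₁ hQ₂ hP₂ in
/-- `H²(F(c,d)) = 0` -/
theorem h2_kernel (c d : ℤ) (hc : -2 ≤ c) (hd : -2 ≤ d) :
    Subsingleton (Coh.HH (Quad k) ((twQ k c d).obj (kernel m)) 2) := by
  letI := quadOver k
  haveI : Subsingleton (Coh.HH (Quad k) ((kerSeq m).map (twQ k c d)).X₃ 1) :=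
    subsingleton_twQ_coprod k hP₂ c d 1 (h1_OO k (Or.inl ⟨by omega, by omega⟩))
  haveI : Subsingleton (Coh.HH (Quad k) ((kerSeq m).map (twQ k c d)).X₂ (1 + 1)) :=
    subsingleton_source hQ₁ hQ₂ c d 2 (h2_OO k (Or.inl (by omega))) (h2_OO k (Or.inr (by omega)))
  exact CohLin.subsingleton_X₁ (shortExact_twist m c d)

include hQ₁ hQ₂ hP₂ in
/-- `H¹(F(c,d)) = 0` for `c, d < 0` even -/
theorem h1_kernel_neg (c : ℤ) (hc : c ≤ -2) :
    Subsingleton (Coh.HH (Quad k) ((twQ k c c).obj (kernel m)) 1) := by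
  letI := quadOver k
  haveI : Subsingleton (Coh.HH (Quad k) ((kerSeq m).map (twQ k c c)).X₃ 0) :=
    subsingleton_twQ_coprod k hP₂ c c 0 (h0_OO k (Or.inl (by omega)))
  haveI : Subsingleton (Coh.HH (Quad k) ((kerSeq m).map (twQ k c c)).X₂ (0 + 1)) :=
    subsingleton_source hQ₁ hQ₂ c c 1 (h1_OO k (Or.inr (Or.inr (Or.inr ⟨by omega, by omega⟩))))
      (h1_OO k (Or.inr (Or.inr (Or.inr ⟨by omega, by omega⟩))))
  exact CohLin.subsingleton_X₁ (shortExact_twist m c c)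

theorem iso_zero (M : (Quad k).Modules) : Nonempty ((twQ k 0 0).obj M ≅ M) := by
  obtain ⟨e₁⟩ := pO_zero k (p₁ k)
  obtain ⟨e₂⟩ := pO_zero k (p₂ k)
  exact ⟨ProjTwist.tensCongr (Iso.refl M) (ProjTwist.tensCongr e₁ e₂ ≪≫ ProjTwist.oneTens _) ≪≫ ProjTwist.tensOne M⟩

include hQ₁ hQ₂ hP₂ in
theorem h0_h1_kernel (hm0 : Function.Surjective (Sheaf.H.map ((SheafOfModules.toSheaf _).map m) 0)) :
    Subsingleton (Coh.HH (Quad k) (kernel m) 0) ∧ Subsingleton (Coh.HH (Quad k) (kernel m) 1) := by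
  letI := quadOver k
  have hdim : ∀ {Q : (Quad k).Modules} (a b : ℕ), Nonempty (Q ≅ ∐ fun _ : Fin r => OO k a b) →
      Module.Finite k (Coh.HH (Quad k) Q 0) ∧ Module.finrank k (Coh.HH (Quad k) Q 0) = r * ((a + 1) * (b + 1)) := by
    rintro Q a b ⟨e⟩
    obtain ⟨hf, hr⟩ := finrank_h0_OO k a b
    obtain ⟨hf', hr'⟩ := finrank_coprod_const k (r := r) (OO k a b) 0 hf
    exact ⟨Module.Finite.equiv (isoL k e 0).symm, by rw [(isoL k e 0).finrank_eq, hr', hr]⟩
  obtain ⟨f1, r1⟩ := hdim (Q := Q₁) 1 0 hQ₁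
  obtain ⟨f2, r2⟩ := hdim (Q := Q₂) 0 1 hQ₂
  obtain ⟨f3, r3⟩ := hdim (Q := P₂) 1 1 hP₂
  obtain ⟨f12, r12⟩ := finrank_biprod k Q₁ Q₂ 0 f1 f2
  have hsurj : Function.Surjective (CohLES.mapL k m 0) := hm0
  have hinj : Function.Injective (CohLES.mapL k m 0) :=
    (LinearMap.injective_iff_surjective_of_finrank_eq_finrank (by rw [r12, r1, r2, r3]; ring)).mpr hsurj
  refine ⟨subsingleton_of_forall_eq 0 fun x => ?_, subsingleton_of_forall_eq 0 fun x => ?_⟩
  · refine ProperFin.hMap_zero_injective (kernel.ι m) ?_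
    refine (hinj ?_).trans (map_zero _).symm
    rw [map_zero]
    exact CohLES.mapL_comp_eq_zero (A := k) (S := kerSeq m) x
  · obtain ⟨e⟩ := iso_zero (k := k) (Q₁ ⊞ Q₂)
    haveI : Subsingleton (Coh.HH (Quad k) (Q₁ ⊞ Q₂) 1) :=
      subsingleton_hh_of_iso e 1 (subsingleton_source hQ₁ hQ₂ 0 0 1
        (h1_OO k (Or.inl ⟨by omega, by omega⟩)) (h1_OO k (Or.inl ⟨by omega, by omega⟩)))
    obtain ⟨y, rfl⟩ := CohLES.exact₁ (A := k) (shortExact_kerSeq m) (zero_add 1) x (Subsingleton.elim _ _)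
    obtain ⟨z, rfl⟩ := hsurj y
    exact CohLES.δL_mapL (A := k) (shortExact_kerSeq m) (zero_add 1) z

include hQ₁ hQ₂ hP₂ in
/-- `H¹(F(a,b)) = 0` for `a, b ≥ 0` -/
theorem h1_kernel_nonneg (hm0 : Function.Surjective (Sheaf.H.map ((SheafOfModules.toSheaf _).map m) 0)) :
    ∀ a b : ℕ, Subsingleton (Coh.HH (Quad k) ((twQ k a b).obj (kernel m)) 1) := by
  letI := quadOver k
  let F := kernel m
  obtain ⟨d₁⟩ := nonempty_downT_fst k
  obtain ⟨d₂⟩ := nonempty_downT_snd k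
  intro a
  induction a with
  | zero =>
    intro b
    induction b with
    | zero => exact subsingleton_hh_of_iso (iso_zero F).some.symm 1 (h0_h1_kernel hQ₁ hQ₂ hP₂ m hm0).2
    | succ b ih =>
      let e : ∀ t : ℤ, (downT (p₂ k)).obj ((twQ k 0 t).obj F) ≅ (twQ k 0 (t - 1)).obj F := fun t =>
        d₂.app ((twQ k 0 t).obj F) ≪≫ (twTwQ k 0 t 0 (-1) 0 (t - 1) (add_zero 0) (sub_eq_add_neg t 1).symm).app F
      refine subsingleton_h1_of_down (p₂ k) _ (subsingleton_hh_of_iso (e ((b + 1 : ℕ) : ℤ)).symm 1 ?_)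
        (subsingleton_hh_of_iso ((downT (p₂ k)).mapIso (e ((b + 1 : ℕ) : ℤ)) ≪≫ e _).symm 2
          (h2_kernel hQ₁ hQ₂ hP₂ m 0 _ (by omega) (by omega)))
      have h : ((b + 1 : ℕ) : ℤ) - 1 = (b : ℤ) := by push_cast; ring
      rw [h]
      exact ih
  | succ a ih =>
    intro b
    let e : ∀ t : ℤ, (downT (p₁ k)).obj ((twQ k t b).obj F) ≅ (twQ k (t - 1) b).obj F := fun t =>
      d₁.app ((twQ k t b).obj F) ≪≫ (twTwQ k t b (-1) 0 (t - 1) b (sub_eq_add_neg t 1).symm (add_zero _)).app F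
    refine subsingleton_h1_of_down (p₁ k) _ (subsingleton_hh_of_iso (e ((a + 1 : ℕ) : ℤ)).symm 1 ?_)
      (subsingleton_hh_of_iso ((downT (p₁ k)).mapIso (e ((a + 1 : ℕ) : ℤ)) ≪≫ e _).symm 2
        (h2_kernel hQ₁ hQ₂ hP₂ m _ b (by omega) (by omega)))
    have h : ((a + 1 : ℕ) : ℤ) - 1 = (a : ℤ) := by push_cast; ring
    rw [h]
    exact ih b

end Groth.Agent.QuadP1
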