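import Groth.Agent.QuadP1.Kos
import Groth.Agent.HTor95.BoxHH
import Groth.Agent.CMReg.FieldBC
import Groth.Agent.ProjTwist.Pn.H0
import Groth.Agent.ProjTwist.Pn.Coh
import Groth.Agent.ProjTwist.Pn.Finite
import Groth.Agent.PlanePts.Forms
import Groth.Agent.PicLaw.Calc
import Groth.Agent.ProjTwist.Pn.Twist

/-!
# Cohomology of `O(a, b)` on `P¹ × P¹`
-/

set_option autoImplicit false

universe u

open CategoryTheory Limits AlgebraicGeometry TopologicalSpace
open Groth.Agent
open scoped DirectSum TensorProduct Groth.Agent.PicLaw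

noncomputable section

namespace Groth.Agent.QuadP1

variable (k : Type u) [Field k]

/-- `P¹ × P¹` -/
abbrev Quad : Scheme.{u} := pullback (CohB1.ProjSpace.toSpec 1 k) (CohB1.ProjSpace.toSpec 1 k)

/-- first projection -/
abbrev p₁ : Quad k ⟶ CohB1.ProjSpace 1 k :=
  pullback.fst (CohB1.ProjSpace.toSpec 1 k) (CohB1.ProjSpace.toSpec 1 k)

/-- second projection -/
abbrev p₂ : Quad k ⟶ CohB1.ProjSpace 1 k :=
  pullback.snd (CohB1.ProjSpace.toSpec 1 k) (CohB1.ProjSpace.toSpec 1 k)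

/-- the structure map -/
@[reducible] def quadOver : (Quad k).Over (Spec (CommRingCat.of k)) := ⟨p₁ k ≫ CohB1.ProjSpace.toSpec 1 k⟩

/-- `O(a, b)` -/
abbrev OO (a b : ℤ) : (Quad k).Modules := CohB1.tensorMod (pO (p₁ k) a) (pO (p₂ k) b)

/-- twisting by `O(a, b)` -/
abbrev twQ (a b : ℤ) : (Quad k).Modules ⥤ (Quad k).Modules := (DCoh.tensorBi (X := Quad k)).flip.obj (OO k a b)

theorem isInvertible_pO (p : Quad k ⟶ CohB1.ProjSpace 1 k) (a : ℤ) : PicF.IsInvertible (pO p a) :=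
  PicLoc.isInvertible_pullback p (ProjTwist.isInvertible_twistProjSpace 1 k a)

theorem isInvertible_OO (a b : ℤ) : PicF.IsInvertible (OO k a b) :=
  PicLaw.isInvertible_tensor (isInvertible_pO k _ a) (isInvertible_pO k _ b)

theorem cls_pO_add (p : Quad k ⟶ CohB1.ProjSpace 1 k) (a c : ℤ) :
    PicGrp.cls (pO p (a + c)) (isInvertible_pO k p (a + c)) =
      PicGrp.cls (pO p a) (isInvertible_pO k p a) * PicGrp.cls (pO p c) (isInvertible_pO k p c) := by
  rw [PicLaw.cls_pullback p (ProjTwist.isInvertible_twistProjSpace 1 k a),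
    PicLaw.cls_pullback p (ProjTwist.isInvertible_twistProjSpace 1 k c),
    PicLaw.cls_pullback p (ProjTwist.isInvertible_twistProjSpace 1 k (a + c)), ← map_mul, ← PicLaw.cls_tensor]
  exact congrArg _ ((PicLaw.iso_iff _ _).mp
    ⟨(ProjTwist.nonempty_twistProjSpace_tensor 1 k a c).some.symm⟩)

theorem nonempty_OO_tensor (a b c d : ℤ) :
    Nonempty (CohB1.tensorMod (OO k a b) (OO k c d) ≅ OO k (a + c) (b + d)) := by
  refine (PicLaw.iso_iff (PicLaw.isInvertible_tensor (isInvertible_OO k a b) (isInvertible_OO k c d))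
    (isInvertible_OO k _ _)).mpr ?_
  rw [PicLaw.cls_tensor (isInvertible_OO k a b) (isInvertible_OO k c d),
    PicLaw.cls_tensor (isInvertible_pO k _ a) (isInvertible_pO k _ b),
    PicLaw.cls_tensor (isInvertible_pO k _ c) (isInvertible_pO k _ d),
    PicLaw.cls_tensor (isInvertible_pO k _ (a + c)) (isInvertible_pO k _ (b + d)), cls_pO_add, cls_pO_add]
  exact mul_mul_mul_comm _ _ _ _

/-- twisting twice -/
def twTwQ (a b c d e f : ℤ) (h : a + c = e) (h' : b + d = f) : twQ k a b ⋙ twQ k c d ≅ twQ k e f :=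
  ProjTwist.assocNat (OO k a b) (OO k c d) (OO k e f)
    ((nonempty_OO_tensor k a b c d).some ≪≫ eqToIso (by rw [h, h']))

theorem pO_zero (p : Quad k ⟶ CohB1.ProjSpace 1 k) : Nonempty (pO p 0 ≅ Coh.structureModule (Quad k)) :=
  ⟨(Scheme.Modules.pullback p).mapIso (ProjTwist.twistZeroIso (CohB1.polyGrading 1 k)).symm ≪≫
    QCoh.pullbackUnitIso p⟩

/-- `p₁^*O(-1) ≅ O(-1, 0)`, as twists -/
theorem nonempty_downT_fst : Nonempty (downT (p₁ k) ≅ twQ k (-1) 0) :=
  ⟨(DCoh.tensorBi (X := Quad k)).flip.mapIso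
    (ProjTwist.tensCongr (Iso.refl _) (pO_zero k (p₂ k)).some ≪≫ ProjTwist.tensOne _).symm⟩

/-- `p₂^*O(-1) ≅ O(0, -1)`, as twists -/
theorem nonempty_downT_snd : Nonempty (downT (p₂ k) ≅ twQ k 0 (-1)) :=
  ⟨(DCoh.tensorBi (X := Quad k)).flip.mapIso
    (ProjTwist.tensCongr (pO_zero k (p₁ k)).some (Iso.refl _) ≪≫ ProjTwist.oneTens _).symm⟩

theorem subsingleton_tensor {M N : Type u} [AddCommGroup M] [Module k M] [AddCommGroup N] [Module k N]
    (h : Subsingleton M ∨ Subsingleton N) : Subsingleton (M ⊗[k] N) := by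
  refine subsingleton_of_forall_eq 0 fun z => ?_
  induction z using TensorProduct.induction_on with
  | zero => rfl
  | tmul a b =>
    rcases h with h | h
    · rw [h.elim a 0, TensorProduct.zero_tmul]
    · rw [h.elim b 0, TensorProduct.tmul_zero]
  | add a b ha hb => rw [ha, hb, add_zero]

theorem nonempty_kunneth (a b : ℤ) (n : ℕ) :
    letI := quadOver k
    Nonempty (Coh.HH (Quad k) (OO k a b) n ≃ₗ[k]
      ⨁ pq : Finset.HasAntidiagonal.antidiagonal n,
        Coh.HH (CohB1.ProjSpace 1 k) (Twist.twistProjSpace 1 k a) pq.1.1 ⊗[k]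
          Coh.HH (CohB1.ProjSpace 1 k) (Twist.twistProjSpace 1 k b) pq.1.2) := by
  letI := quadOver k
  haveI := ProjProper.Basic.isProper_toSpec 1 k
  haveI : QuasiCompact ((CohB1.ProjSpace 1 k) ↘ Spec (CommRingCat.of k)) :=
    inferInstanceAs (QuasiCompact (CohB1.ProjSpace.toSpec 1 k))
  haveI : IsSeparated ((CohB1.ProjSpace 1 k) ↘ Spec (CommRingCat.of k)) :=
    inferInstanceAs (IsSeparated (CohB1.ProjSpace.toSpec 1 k))
  haveI := ProjTwist.isQCoh_twistProjSpace 1 k a
  haveI := ProjTwist.isQCoh_twistProjSpace 1 k b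
  exact HTor95.BoxHH.nonempty_kunnethHH (A := k)
    (IsPullback.of_hasPullback (CohB1.ProjSpace.toSpec 1 k) (CohB1.ProjSpace.toSpec 1 k)) rfl
    (Twist.twistProjSpace 1 k a) (Twist.twistProjSpace 1 k b) (CMReg.isFlatOver_field _ _)
    (fun _ => inferInstance) n

/-- vanishing -/
theorem subsingleton_hh (a b : ℤ) (n : ℕ)
    (h : ∀ i j : ℕ, i + j = n → Subsingleton (Coh.HH (CohB1.ProjSpace 1 k) (Twist.twistProjSpace 1 k a) i) ∨
      Subsingleton (Coh.HH (CohB1.ProjSpace 1 k) (Twist.twistProjSpace 1 k b) j)) :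
    Subsingleton (Coh.HH (Quad k) (OO k a b) n) := by
  letI := quadOver k
  obtain ⟨e⟩ := nonempty_kunneth k a b n
  haveI : ∀ pq : Finset.HasAntidiagonal.antidiagonal n, Subsingleton
      (Coh.HH (CohB1.ProjSpace 1 k) (Twist.twistProjSpace 1 k a) pq.1.1 ⊗[k]
        Coh.HH (CohB1.ProjSpace 1 k) (Twist.twistProjSpace 1 k b) pq.1.2) := fun pq =>
    subsingleton_tensor k (h _ _ (Finset.HasAntidiagonal.mem_antidiagonal.mp pq.2))
  exact e.toEquiv.subsingleton

theorem h1_line {a : ℤ} (ha : -1 ≤ a) :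
    Subsingleton (Coh.HH (CohB1.ProjSpace 1 k) (Twist.twistProjSpace 1 k a) 1) :=
  ProjTwist.Pn.subsingleton_twist (n := 1) (R := k) a 0 (Or.inr (by omega))

theorem h0_line {a : ℤ} (ha : a < 0) :
    Subsingleton (Coh.HH (CohB1.ProjSpace 1 k) (Twist.twistProjSpace 1 k a) 0) :=
  ProjTwist.Pn.subsingleton_H0 le_rfl ha

theorem h2_line (a : ℤ) (i : ℕ) (hi : 2 ≤ i) :
    Subsingleton (Coh.HH (CohB1.ProjSpace 1 k) (Twist.twistProjSpace 1 k a) i) :=
  ProjTwist.Pn.subsingleton_above _ (ProjTwist.isQCoh_twistProjSpace 1 k a) i (by omega)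

theorem h1_OO {a b : ℤ} (h : (-1 ≤ a ∧ -1 ≤ b) ∨ a = -1 ∨ b = -1 ∨ (a < 0 ∧ b < 0)) :
    Subsingleton (Coh.HH (Quad k) (OO k a b) 1) := by
  refine subsingleton_hh k a b 1 fun i j hij => ?_
  rcases (show (i = 0 ∧ j = 1) ∨ (i = 1 ∧ j = 0) by omega) with ⟨rfl, rfl⟩ | ⟨rfl, rfl⟩
  · rcases h with h | h | h | h
    · exact Or.inr (h1_line k h.2)
    · exact Or.inl (h0_line k (by omega))
    · exact Or.inr (h1_line k (by omega))
    · exact Or.inl (h0_line k h.1)
  · rcases h with h | h | h | h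
    · exact Or.inl (h1_line k h.1)
    · exact Or.inl (h1_line k (by omega))
    · exact Or.inr (h0_line k (by omega))
    · exact Or.inr (h0_line k h.2)

theorem h2_OO {a b : ℤ} (h : -1 ≤ a ∨ -1 ≤ b) : Subsingleton (Coh.HH (Quad k) (OO k a b) 2) := by
  refine subsingleton_hh k a b 2 fun i j hij => ?_
  rcases (show (2 ≤ i) ∨ (2 ≤ j) ∨ (i = 1 ∧ j = 1) by omega) with hi | hj | ⟨rfl, rfl⟩
  · exact Or.inl (h2_line k a i hi)
  · exact Or.inr (h2_line k b j hj)
  · exact h.imp (h1_line k) (h1_line k)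

theorem h0_OO {a b : ℤ} (h : a < 0 ∨ b < 0) : Subsingleton (Coh.HH (Quad k) (OO k a b) 0) := by
  refine subsingleton_hh k a b 0 fun i j hij => ?_
  obtain ⟨rfl, rfl⟩ : i = 0 ∧ j = 0 := by omega
  exact h.imp (h0_line k) (h0_line k)

theorem finrank_h0_OO (a b : ℕ) :
    letI := quadOver k
    Module.Finite k (Coh.HH (Quad k) (OO k a b) 0) ∧
      Module.finrank k (Coh.HH (Quad k) (OO k a b) 0) = (a + 1) * (b + 1) := by
  letI := quadOver k
  obtain ⟨e⟩ := nonempty_kunneth k (a : ℤ) (b : ℤ) 0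
  have hline : ∀ d : ℕ, Module.finrank k (Coh.HH (CohB1.ProjSpace 1 k) (Twist.twistProjSpace 1 k (d : ℤ)) 0) = d + 1 :=
    fun d => by
      rw [(ProjTwist.Pn.h0Equiv 1 k d).finrank_eq.symm, PlanePts.finrank_forms, add_comm, Nat.choose_one_right]
  have hfin : ∀ (d : ℤ) (i : ℕ),
      Module.Finite k (Coh.HH (CohB1.ProjSpace 1 k) (Twist.twistProjSpace 1 k d) i) := fun d i =>
    ProjTwist.Pn.finite_cohomology _ (ProjTwist.Pn.isCoh_twistProjSpace 1 k d) i
  refine ⟨Module.Finite.equiv e.symm, ?_⟩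
  rw [e.finrank_eq, Module.finrank_directSum]
  have h1 : Finset.HasAntidiagonal.antidiagonal (0 : ℕ) = {((0 : ℕ), (0 : ℕ))} := rfl
  rw [Finset.sum_eq_single ⟨((0 : ℕ), (0 : ℕ)), by rw [h1]; exact Finset.mem_singleton_self _⟩]
  · rw [Module.finrank_tensorProduct, hline, hline]
  · rintro ⟨x, hx⟩ _ hne
    rw [h1, Finset.mem_singleton] at hx
    exact absurd (Subtype.ext hx) hne
  · exact fun h => absurd (Finset.mem_univ _) h

section Sums

variable {X : Scheme.{u}} [X.Over (Spec (CommRingCat.of k))]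

/-- cohomology of a finite sum -/
theorem finrank_coprod_const {r : ℕ} (M : X.Modules) (n : ℕ) (h : Module.Finite k (Coh.HH X M n)) :
    Module.Finite k (Coh.HH X (∐ fun _ : Fin r => M) n) ∧
      Module.finrank k (Coh.HH X (∐ fun _ : Fin r => M) n) = r * Module.finrank k (Coh.HH X M n) := by
  classical
  have hsum : ∑ j, Sigma.π (fun _ : Fin r => M) j ≫ Sigma.ι (fun _ : Fin r => M) j = 𝟙 _ := by
    refine Sigma.hom_ext _ _ fun i => ?_
    rw [Preadditive.comp_sum, Category.comp_id, Finset.sum_eq_single i]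
    · rw [Sigma.ι_π_eq_id_assoc]
    · intro j _ hj
      rw [Sigma.ι_π_of_ne_assoc _ (Ne.symm hj), zero_comp]
    · simp
  let f : Coh.HH X (∐ fun _ : Fin r => M) n ≃ₗ[k] (Fin r → Coh.HH X M n) :=
    LinearEquiv.ofLinearMap (LinearMap.pi fun j => CohLES.mapL k (Sigma.π _ j) n)
      (∑ j, (CohLES.mapL k (Sigma.ι (fun _ : Fin r => M) j) n).comp (LinearMap.proj j))
      (LinearMap.ext fun v => funext fun i => by
        rw [LinearMap.comp_apply, LinearMap.id_apply, LinearMap.pi_apply, LinearMap.sum_apply, map_sum,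
          Finset.sum_eq_single i]
        · rw [LinearMap.comp_apply, ← LinearMap.comp_apply, ← CohLES.mapL_comp, Sigma.ι_π_eq_id, CohLES.mapL_id]
          rfl
        · intro j _ hj
          rw [LinearMap.comp_apply, ← LinearMap.comp_apply, ← CohLES.mapL_comp, Sigma.ι_π_of_ne _ hj,
            CohLES.mapL_zero]
          rfl
        · simp)
      (LinearMap.ext fun x => by
        rw [LinearMap.comp_apply, LinearMap.sum_apply, LinearMap.id_apply]
        conv_rhs => rw [← LinearMap.id_apply (R := k) x, ← CohLES.mapL_id k (∐ fun _ : Fin r => M) n, ← hsum,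
          CohLES.mapL_sum, LinearMap.sum_apply]
        exact Finset.sum_congr rfl fun j _ => by rw [CohLES.mapL_comp]; rfl)
  refine ⟨Module.Finite.equiv f.symm, ?_⟩
  rw [f.finrank_eq, Module.finrank_pi_fintype]
  simp

include k in
theorem subsingleton_coprod_const {r : ℕ} (M : X.Modules) (n : ℕ) (h : Subsingleton (Coh.HH X M n)) :
    Subsingleton (Coh.HH X (∐ fun _ : Fin r => M) n) := by
  obtain ⟨h1, h2⟩ := finrank_coprod_const k (r := r) M n (by infer_instance)
  rw [Module.finrank_zero_of_subsingleton (M := Coh.HH X M n), mul_zero] at h2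
  exact Module.finrank_zero_iff.mp h2

end Sums

end Groth.Agent.QuadP1
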