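import Groth.Agent.ProjTwist.Pn.MulX
import Groth.Agent.ProjTwist.Pn.KoszulCone
import Groth.Agent.LFFrame.Basic
import Groth.Agent.CohLES.Basic
import Groth.Agent.CohLin.Basic
import Groth.Agent.KFlat.PullTensor
import Groth.Agent.PicCl.Basic

/-!
# Koszul step along a morphism to the projective line

For `p : X ⟶ P¹` and `L' = p^*O(-1)`: if `H¹(G ⊗ L') = 0` and `H²(G ⊗ L' ⊗ L') = 0` then `H¹(G) = 0`.
-/

set_option autoImplicit false

universe u

open CategoryTheory Limits AlgebraicGeometry Opposite TopologicalSpace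
open Groth.Agent

noncomputable section

namespace Groth.Agent.QuadP1

open Groth.Agent.ProjTwist Groth.Agent.Props.GenLocus Groth.Agent.QCoh

variable {X : Scheme.{u}}

theorem subsingleton_biprod (A : Type u) [CommRing A] [X.Over (Spec (CommRingCat.of A))] (M N : X.Modules) (n : ℕ)
    (hM : Subsingleton (Coh.HH X M n)) (hN : Subsingleton (Coh.HH X N n)) :
    Subsingleton (Coh.HH X (M ⊞ N) n) := by
  refine subsingleton_of_forall_eq 0 fun x => ?_
  have e : x = CohLES.mapL A biprod.inl n (CohLES.mapL A biprod.fst n x) +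
      CohLES.mapL A biprod.inr n (CohLES.mapL A biprod.snd n x) := by
    rw [← LinearMap.comp_apply, ← LinearMap.comp_apply, ← CohLES.mapL_comp, ← CohLES.mapL_comp,
      ← LinearMap.add_apply, ← CohLES.mapL_add, biprod.total, CohLES.mapL_id]
    rfl
  rw [e, hM.elim (CohLES.mapL A biprod.fst n x) 0, hN.elim (CohLES.mapL A biprod.snd n x) 0, map_zero, map_zero,
    add_zero]

theorem subsingleton_hh_of_iso {M N : X.Modules} (e : M ≅ N) (n : ℕ) (h : Subsingleton (Coh.HH X M n)) :
    Subsingleton (Coh.HH X N n) :=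
  (CohLin.hIso e.symm n).toEquiv.subsingleton

theorem subsingleton_hh_of_isZero (A : Type u) [CommRing A] [X.Over (Spec (CommRingCat.of A))] {M : X.Modules}
    (hM : IsZero M) (n : ℕ) : Subsingleton (Coh.HH X M n) := by
  refine subsingleton_of_forall_eq 0 fun x => ?_
  have h := LinearMap.congr_fun (CohLES.mapL_id A (X := X) M n) x
  rw [hM.eq_of_src (𝟙 M) 0, CohLES.mapL_zero] at h
  exact h.symm

variable {R : Type u} [CommRing R] (p : X ⟶ CohB1.ProjSpace 1 R)

/-- `p^* O(d)` -/
abbrev pO (d : ℤ) : X.Modules := (Scheme.Modules.pullback p).obj (Twist.twistProjSpace 1 R d)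

/-- Twisting by `p^*O(-1)`. -/
abbrev downT : X.Modules ⥤ X.Modules := (DCoh.tensorBi (X := X)).flip.obj (pO p (-1))

/-- `p^*O(-1) ⊗ p^*O(1) ≅ O` -/
def cancelIso : CohB1.tensorMod (pO p (-1)) (pO p 1) ≅ Coh.structureModule X :=
  (KFlat.PullTensor.pullTensorIso p (Twist.twistProjSpace 1 R (-1)) (Twist.twistProjSpace 1 R 1)).symm ≪≫
    (Scheme.Modules.pullback p).mapIso ((nonempty_twistProjSpace_tensor 1 R (-1) 1).some ≪≫
      eqToIso (by rw [neg_add_cancel]; rfl) ≪≫ (twistZeroIso (CohB1.polyGrading 1 R)).symm) ≪≫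
    QCoh.pullbackUnitIso p

/-- the pulled back coordinate section -/
def pSec (j : Fin 2) : Γ(pO p 1, ⊤) :=
  LFFrame.unitSec p (Twist.twistProjSpace 1 R 1) ⊤ (Pn.xSec j)

/-- multiplication by the pulled back coordinate -/
def tau (j : Fin 2) : downT p ⟶ 𝟭 X.Modules :=
  mulDown (mulNat (pO p 1) (homOfSec (pSec p j)))
    (assocNat (pO p (-1)) (pO p 1) (Coh.structureModule X) (cancelIso p) ≪≫
      Groth.Agent.KFlat.ProjFormula.unitRight X)

theorem isGen_pSec (j : Fin 2) :
    IsGen (pO p 1) (p ⁻¹ᵁ stdOpen 1 R j)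
      (sec (homOfSec (pSec p j)) (p ⁻¹ᵁ stdOpen 1 R j)) := by
  rw [sec_homOfSec]
  refine (isGen_iff_isFrame (L := pO p 1) _).mpr ?_
  have h := ((isGen_iff_isFrame _).mp (Pn.isGen_xSec (R := R) (n := 1) j)).pullback p
  convert h using 1
  funext i
  fin_cases i
  exact (LFFrame.unitSec_res p (Twist.twistProjSpace 1 R 1) (le_top : stdOpen 1 R j ≤ ⊤) (Pn.xSec j)).symm

theorem exists_tau_bijAt (y : X) : ∃ τ ∈ [tau p 0, tau p 1], Kosz.BijAt τ y := by
  obtain ⟨j, hj⟩ := Opens.mem_iSup.mp ((iSup_stdOpen 1 R).ge (trivial : p y ∈ (⊤ : (CohB1.ProjSpace 1 R).Opens)))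
  refine ⟨tau p j, ?_, fun M => ?_⟩
  · fin_cases j <;> simp
  · exact Pn.stalkLin_comp_bijective _ _ y
      (stalkLin_bijective_of_app _ (p ⁻¹ᵁ stdOpen 1 R j)
        (fun V hV => mulSecHom_bijective _ _ _ (isGen_pSec p j) _ V hV) y hj)
      (Pn.stalkLin_iso_bijective ((assocNat (pO p (-1)) (pO p 1) (Coh.structureModule X) (cancelIso p) ≪≫
        Groth.Agent.KFlat.ProjFormula.unitRight X).app M) y)

instance : (downT p).Additive := Functor.additive_of_preserves_binary_products _

/-- The Koszul step. -/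
theorem subsingleton_h1_of_down [X.Over (Spec (CommRingCat.of R))] (G : X.Modules)
    (h1 : Subsingleton (Coh.HH X ((downT p).obj G) 1))
    (h2 : Subsingleton (Coh.HH X ((downT p).obj ((downT p).obj G)) 2)) :
    Subsingleton (Coh.HH X G 1) := by
  let K : Kosz.AugCx G := Kosz.kosz G [tau p 0, tau p 1]
  let P : ℕ → X.Modules → Prop := fun q M =>
    match q with
    | 0 => Subsingleton (Coh.HH X ((downT p).obj M) 1) ∧ Subsingleton (Coh.HH X ((downT p).obj ((downT p).obj M)) 2)
    | 1 => Subsingleton (Coh.HH X M 1) ∧ Subsingleton (Coh.HH X ((downT p).obj M) 2)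
    | 2 => Subsingleton (Coh.HH X M 2)
    | _ => True
  have hP : ∀ q, P q (Kosz.term G K.Y q) := by
    intro q
    refine Kosz.kosz_term P ⟨h1, h2⟩ ?_ ?_ ?_ [tau p 0, tau p 1] q
    · intro q M hM
      have hT : IsZero ((downT p).obj M) := (downT p).map_isZero hM
      match q with
      | 0 => exact ⟨subsingleton_hh_of_isZero R hT 1, subsingleton_hh_of_isZero R ((downT p).map_isZero hT) 2⟩
      | 1 => exact ⟨subsingleton_hh_of_isZero R hM 1, subsingleton_hh_of_isZero R hT 2⟩
      | 2 => exact subsingleton_hh_of_isZero R hM 2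
      | _ + 3 => trivial
    · intro q A B hA hB
      haveI := preservesBinaryBiproducts_of_preservesBinaryProducts (downT p)
      have e : (downT p).obj (A ⊞ B) ≅ (downT p).obj A ⊞ (downT p).obj B := (downT p).mapBiprod A B
      match q, hA, hB with
      | 0, ⟨a1, a2⟩, ⟨b1, b2⟩ =>
        exact ⟨subsingleton_hh_of_iso e.symm 1 (subsingleton_biprod R _ _ 1 a1 b1),
          subsingleton_hh_of_iso ((downT p).mapIso e ≪≫ (downT p).mapBiprod _ _).symm 2
            (subsingleton_biprod R _ _ 2 a2 b2)⟩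
      | 1, ⟨a1, a2⟩, ⟨b1, b2⟩ =>
        exact ⟨subsingleton_biprod R _ _ 1 a1 b1,
          subsingleton_hh_of_iso e.symm 2 (subsingleton_biprod R _ _ 2 a2 b2)⟩
      | 2, ha, hb => exact subsingleton_biprod R _ _ 2 ha hb
      | _ + 3, _, _ => trivial
    · intro q A hA
      match q, hA with
      | 0, ha => exact ha
      | 1, ⟨_, a2⟩ => exact a2
      | _ + 2, _ => trivial
  let S : ShortComplex X.Modules := ShortComplex.mk (K.d 1) (K.d 0) (K.dd 0)
  have hex : ∀ y, K.ExactAt y := fun y => Kosz.exactAt_kosz G _ y (exists_tau_bijAt p y)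
  have hS : S.ShortExact :=
    { exact := Omega.Stalks.exact_of_stalk S fun y t ht => by
        obtain ⟨u, hu⟩ := (hex y).2 0 t ht
        exact ⟨u, hu⟩
      mono_f := Omega.Stalks.mono_of_stalk fun y => (injective_iff_map_eq_zero _).mpr fun t ht => by
        obtain ⟨u, hu⟩ := (hex y).2 1 t ht
        have hz : IsZero (K.Y 2) := Kosz.isZero_kosz _ 2 (by simp)
        rw [← hu, hz.eq_of_src (K.d 2) 0]
        exact Omega.Stalks.stalkLin_zero y u
      epi_g := Omega.Stalks.epi_of_stalk fun y => (hex y).1 }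
  haveI : Subsingleton (Coh.HH X S.X₂ 1) := (hP 1).1
  haveI : Subsingleton (Coh.HH X S.X₁ (1 + 1)) := hP 2
  exact CohLin.subsingleton_X₃ hS

end Groth.Agent.QuadP1
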