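import Groth.Agent.QuadP1.Coh
import Groth.Agent.VBPnJump.Line
import Groth.Agent.VBPnJump.Glue

/-!
# Pencils of linear forms in each factor of `P¹ × P¹`
-/

set_option autoImplicit false
set_option linter.style.haveILetI false
set_option backward.isDefEq.respectTransparency false
set_option backward.isDefEq.respectTransparency.types false
set_option synthInstance.maxHeartbeats 400000

universe u

open CategoryTheory CategoryTheory.Limits AlgebraicGeometry TopologicalSpace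

noncomputable section

namespace Groth.Agent.QuadP1

open Groth.Agent.VBPnJump
open Groth.Agent.PullStalk.Exact (stalkLin)

variable {k : Type u} [Field k]

local notation "T(" d ")" => Twist.twistProjSpace 1 k d

/-- The first slot with second degree `b`. -/
abbrev slot₁ (b : ℤ) : (CohB1.ProjSpace 1 k).Modules ⥤ (Quad k).Modules :=
  Scheme.Modules.pullback (p₁ k) ⋙ (DCoh.tensorBi (X := Quad k)).flip.obj (pO (p₂ k) b)

/-- The second slot with first degree `a`. -/
abbrev slot₂ (a : ℤ) : (CohB1.ProjSpace 1 k).Modules ⥤ (Quad k).Modules :=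
  Scheme.Modules.pullback (p₂ k) ⋙ (DCoh.tensorBi (X := Quad k)).obj (pO (p₁ k) a)

/-- A linear form. -/
abbrev lf (c : Fin 2 → k) : MvPolynomial (Fin 2) k :=
  MvPolynomial.C (c 0) * MvPolynomial.X 0 + MvPolynomial.C (c 1) * MvPolynomial.X 1

theorem lf_mem (c : Fin 2 → k) : lf c ∈ CohB1.polyGrading 1 k 1 :=
  Submodule.add_mem _ ((MvPolynomial.mem_homogeneousSubmodule _ _).mpr (MvPolynomial.isHomogeneous_C_mul_X _ _))
    ((MvPolynomial.mem_homogeneousSubmodule _ _).mpr (MvPolynomial.isHomogeneous_C_mul_X _ _))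

/-- Multiplication by a linear form. -/
def lh (c : Fin 2 → k) : T(0) ⟶ T(1) := SerrePn.mulHom 0 1 (lf_mem c) (by norm_num)

theorem interchange (f g : T(0) ⟶ T(1)) :
    (slot₁ 0).map f ≫ (slot₂ 1).map g = (slot₂ 0).map g ≫ (slot₁ 1).map f :=
  (((DCoh.tensorBi (X := Quad k)).map ((Scheme.Modules.pullback (p₁ k)).map f)).naturality
    ((Scheme.Modules.pullback (p₂ k)).map g)).symm

theorem mem_or_mem {c d : Fin 2 → k} (h : c 0 * d 1 - c 1 * d 0 ≠ 0) (y : CohB1.ProjSpace 1 k) :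
    y ∈ Proj.basicOpen (CohB1.polyGrading 1 k) (lf c) ∨ y ∈ Proj.basicOpen (CohB1.polyGrading 1 k) (lf d) := by
  by_contra hy
  obtain ⟨h₁, h₂⟩ := not_or.mp hy
  let I := (show ProjectiveSpectrum (CohB1.polyGrading 1 k) from y).asHomogeneousIdeal.toIdeal
  have hc : lf c ∈ I := not_not.mp h₁
  have hd : lf d ∈ I := not_not.mp h₂
  have hu : IsUnit (MvPolynomial.C (c 0 * d 1 - c 1 * d 0) : MvPolynomial (Fin 2) k) :=
    (Ne.isUnit h).map MvPolynomial.C
  have h0 : (MvPolynomial.X 0 : MvPolynomial (Fin 2) k) ∈ I := (Ideal.unit_mul_mem_iff_mem I hu).mp (by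
    have := I.sub_mem (I.mul_mem_left (MvPolynomial.C (d 1)) hc) (I.mul_mem_left (MvPolynomial.C (c 1)) hd)
    convert this using 1
    simp only [lf, map_sub, map_mul]
    ring)
  have h1 : (MvPolynomial.X 1 : MvPolynomial (Fin 2) k) ∈ I := (Ideal.unit_mul_mem_iff_mem I hu).mp (by
    have := I.sub_mem (I.mul_mem_left (MvPolynomial.C (c 0)) hd) (I.mul_mem_left (MvPolynomial.C (d 0)) hc)
    convert this using 1
    simp only [lf, map_sub, map_mul]
    ring)
  obtain ⟨i, hi⟩ := Opens.mem_iSup.mp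
    ((ProjTwist.iSup_stdOpen 1 k).ge (trivial : y ∈ (⊤ : (CohB1.ProjSpace 1 k).Opens)))
  fin_cases i
  · exact hi h0
  · exact hi h1

theorem surj_lh {c : Fin 2 → k} {y : CohB1.ProjSpace 1 k}
    (hy : y ∈ Proj.basicOpen (CohB1.polyGrading 1 k) (lf c)) : Surj (lh c) y :=
  (mulHom_bijective (lf_mem c) _ hy).2

theorem surj_lh_or {c d : Fin 2 → k} (h : c 0 * d 1 - c 1 * d 0 ≠ 0) (y : CohB1.ProjSpace 1 k) :
    Surj (lh c) y ∨ Surj (lh d) y :=
  (mem_or_mem h y).imp surj_lh surj_lh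

theorem shortExact_left {X : Scheme.{u}} {L : X.Modules} (hL : PicF.IsInvertible L) {S : ShortComplex X.Modules}
    (hS : S.ShortExact) : (S.map ((DCoh.tensorBi (X := X)).obj L)).ShortExact :=
  ShortComplex.shortExact_of_iso (S.mapNatIso ((KFlat.tensorBiFlipIso (O := X.sheaf)).app L))
    (ProjTwist.shortExact_tensor hL hS)

theorem stalkLin_hom_bijective {X : Scheme.{u}} {A B : X.Modules} (e : A ≅ B) (x : X) :
    Function.Bijective (stalkLin e.hom x) :=
  ProjTwist.Pn.stalkLin_iso_bijective e x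

/-- A Koszul sequence in one slot is surjective on global sections. -/
theorem exists_h0_decomp (G : (CohB1.ProjSpace 1 k).Modules ⥤ (Quad k).Modules) [G.Additive]
    (hG : ∀ {A B C : (CohB1.ProjSpace 1 k).Modules} (a : A ⟶ B) (b : B ⟶ C) (w : a ≫ b = 0),
      (ShortComplex.mk a b w).ShortExact → FlatMod.IsFinLocFree C →
        ∃ w' : G.map a ≫ G.map b = 0, (ShortComplex.mk (G.map a) (G.map b) w').ShortExact)
    (h1 : Subsingleton (Coh.HH (Quad k) (G.obj T(-1)) 1))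
    {c d : Fin 2 → k} (h : c 0 * d 1 - c 1 * d 0 ≠ 0) (z : Coh.HH (Quad k) (G.obj T(1)) 0) :
    ∃ u v : Coh.HH (Quad k) (G.obj T(0)) 0,
      z = CohLin.hMap (G.map (lh c)) 0 u + CohLin.hMap (G.map (lh d)) 0 v := by
  letI := quadOver k
  let D : T(0) ⊞ T(0) ⟶ T(1) := biprod.desc (lh c) (lh d)
  haveI : Epi D := Omega.Stalks.epi_of_stalk fun y =>
    (surj_lh_or h y).elim (surj_left _ _) (surj_right _ _)
  obtain ⟨φ⟩ := kernel_line D (ProjTwist.isFinLocFreeOfRank_one (ProjTwist.isInvertible_twistProjSpace 1 k 0))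
    (ProjTwist.isFinLocFreeOfRank_one (ProjTwist.isInvertible_twistProjSpace 1 k 0))
    (ProjTwist.isFinLocFreeOfRank_one (ProjTwist.isInvertible_twistProjSpace 1 k 1)) (d := (-1 : ℤ))
    (by rw [euler_twist, euler_twist]; norm_num)
  obtain ⟨w', hS⟩ := hG (kernel.ι D) D (kernel.condition D) (shortExact_kernel' D) (finLocFree_twist 1)
  have hK : Subsingleton (Coh.HH (Quad k) (G.obj (kernel D)) 1) :=
    subsingleton_hh_of_iso (G.mapIso φ).symm 1 h1
  obtain ⟨y, hy⟩ := CohLES.exact₃ k hS (n₀ := 0) (n₁ := 1) rfl z (@Subsingleton.elim _ hK _ _)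
  refine ⟨CohLin.hMap (G.map biprod.fst) 0 y, CohLin.hMap (G.map biprod.snd) 0 y, ?_⟩
  have hD : G.map D = G.map biprod.fst ≫ G.map (lh c) + G.map biprod.snd ≫ G.map (lh d) := by
    rw [← G.map_comp, ← G.map_comp, ← G.map_add, ← biprod.desc_eq]
  have e1 : CohLES.mapL k (G.map D) 0 y = z := hy
  rw [← e1, hD, CohLES.mapL_add, LinearMap.add_apply, CohLES.mapL_comp, CohLES.mapL_comp]
  rfl

theorem slot₁_exact (b : ℤ) {A B C : (CohB1.ProjSpace 1 k).Modules} (a : A ⟶ B) (g : B ⟶ C) (w : a ≫ g = 0)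
    (h : (ShortComplex.mk a g w).ShortExact) (hC : FlatMod.IsFinLocFree C) :
    ∃ w' : (slot₁ b).map a ≫ (slot₁ b).map g = 0,
      (ShortComplex.mk ((slot₁ b).map a) ((slot₁ b).map g) w').ShortExact := by
  obtain ⟨w', h'⟩ := CycLib.ChowOp.shortExact_pullback (p₁ k) a g w h hC
  have h2 := ProjTwist.shortExact_tensor (isInvertible_pO k (p₂ k) b) h'
  exact ⟨_, h2⟩

theorem slot₂_exact (a₀ : ℤ) {A B C : (CohB1.ProjSpace 1 k).Modules} (a : A ⟶ B) (g : B ⟶ C) (w : a ≫ g = 0)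
    (h : (ShortComplex.mk a g w).ShortExact) (hC : FlatMod.IsFinLocFree C) :
    ∃ w' : (slot₂ a₀).map a ≫ (slot₂ a₀).map g = 0,
      (ShortComplex.mk ((slot₂ a₀).map a) ((slot₂ a₀).map g) w').ShortExact := by
  obtain ⟨w', h'⟩ := CycLib.ChowOp.shortExact_pullback (p₂ k) a g w h hC
  have h2 := shortExact_left (isInvertible_pO k (p₁ k) a₀) h'
  exact ⟨_, h2⟩

instance additive_slot₁ (b : ℤ) : (slot₁ (k := k) b).Additive :=
  haveI : ((DCoh.tensorBi (X := Quad k)).flip.obj (pO (p₂ k) b)).Additive :=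
    Functor.additive_of_preserves_binary_products _
  inferInstance

theorem h0_slot₁ {b : ℤ} (hb : -1 ≤ b) {c d : Fin 2 → k} (h : c 0 * d 1 - c 1 * d 0 ≠ 0)
    (z : Coh.HH (Quad k) ((slot₁ b).obj T(1)) 0) :
    ∃ u v : Coh.HH (Quad k) ((slot₁ b).obj T(0)) 0,
      z = CohLin.hMap ((slot₁ b).map (lh c)) 0 u + CohLin.hMap ((slot₁ b).map (lh d)) 0 v :=
  exists_h0_decomp (slot₁ b) (slot₁_exact b) (h1_OO k (Or.inl ⟨le_rfl, hb⟩)) h z

theorem h0_slot₂ {a : ℤ} (ha : -1 ≤ a) {c d : Fin 2 → k} (h : c 0 * d 1 - c 1 * d 0 ≠ 0)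
    (z : Coh.HH (Quad k) ((slot₂ a).obj T(1)) 0) :
    ∃ u v : Coh.HH (Quad k) ((slot₂ a).obj T(0)) 0,
      z = CohLin.hMap ((slot₂ a).map (lh c)) 0 u + CohLin.hMap ((slot₂ a).map (lh d)) 0 v :=
  haveI : ((DCoh.tensorBi (X := Quad k)).obj (pO (p₁ k) a)).Additive :=
    Functor.additive_of_preserves_binary_products _
  haveI : (slot₂ (k := k) a).Additive := inferInstance
  exists_h0_decomp (slot₂ a) (slot₂_exact a) (h1_OO k (Or.inl ⟨ha, le_rfl⟩)) h z

end Groth.Agent.QuadP1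

end
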