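import Groth.Agent.QuadP1.Main
import Groth.Agent.DualAbs.Depth
import Groth.Agent.VBStable.CokerSimple

/-!
# Cokernels of `O(-1,-1)^r ⟶ O(-1,0)^r ⊕ O(0,-1)^r` with scalar stabiliser are simple
-/

set_option autoImplicit false
set_option backward.isDefEq.respectTransparency false
set_option backward.isDefEq.respectTransparency.types false

universe u

open CategoryTheory Limits AlgebraicGeometry TopologicalSpace
open Groth.Agent
open scoped Groth.Agent.PicLaw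

noncomputable section

namespace Groth.Agent.QuadP1

variable {k : Type u} [Field k]

theorem nonempty_OO_zero : Nonempty (OO k 0 0 ≅ Coh.structureModule (Quad k)) :=
  ⟨ProjTwist.tensCongr (pO_zero k (p₁ k)).some (pO_zero k (p₂ k)).some ≪≫
    (PicLaw.tensor_structureModule (LFFrame.isInvertible_structureModule (Quad k))).some⟩

/-- `O(a,b) ⊗ O(c,d) ≅ O` for opposite degrees -/
def cancelOO (a b c d : ℤ) (h : a + c = 0) (h' : b + d = 0) :
    CohB1.tensorMod (OO k a b) (OO k c d) ≅ Coh.structureModule (Quad k) :=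
  (nonempty_OO_tensor k a b c d).some ≪≫ eqToIso (by rw [h, h']) ≪≫ (nonempty_OO_zero).some

/-- twisting on the left by `O(a, b)` -/
def twEquivQ (a b : ℤ) : (Quad k).Modules ≌ (Quad k).Modules :=
  VBStable.tensorEquiv (OO k a b) (OO k (-a) (-b)) (cancelOO a b _ _ (by simp) (by simp))
    (cancelOO _ _ a b (by simp) (by simp))

theorem subsingleton_ext_OO [HasExt.{u} (Quad k).Modules] (a b c d : ℤ) (i : ℕ)
    (h : Subsingleton (Coh.HH (Quad k) (OO k (c - a) (d - b)) i)) :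
    Subsingleton (Abelian.Ext (OO k a b) (OO k c d) i) := by
  refine VBStable.subsingleton_ext_of_map (twEquivQ (-a) (-b)) i ?_
  exact DualAbs.subsingleton_ext_of_iso (cancelOO (-a) (-b) a b (by simp) (by simp)).symm
    ((nonempty_OO_tensor k (-a) (-b) c d).some ≪≫ eqToIso (by rw [neg_add_eq_sub, neg_add_eq_sub])).symm
    (SerrePn.subsingleton_ext_unit _ i h)

theorem subsingleton_ext_sum [HasExt.{u} (Quad k).Modules] {r : ℕ} {P Q L M : (Quad k).Modules}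
    (eQ : Q ≅ ∐ fun _ : Fin r => M) (eP : P ≅ ∐ fun _ : Fin r => L) (i : ℕ)
    (h : Subsingleton (Abelian.Ext M L i)) : Subsingleton (Abelian.Ext Q P i) := by
  classical
  refine DualAbs.subsingleton_ext_of_iso eQ.symm eP.symm (subsingleton_of_forall_eq 0 fun x => ?_)
  have hsum : ∀ N : (Quad k).Modules, ∑ j, Sigma.π (fun _ : Fin r => N) j ≫ Sigma.ι (fun _ : Fin r => N) j =
      𝟙 _ := fun N => by
    refine Sigma.hom_ext _ _ fun i => ?_
    rw [Preadditive.comp_sum, Category.comp_id, Finset.sum_eq_single i]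
    · rw [Sigma.ι_π_eq_id_assoc]
    · intro j _ hj
      rw [Sigma.ι_π_of_ne_assoc _ (Ne.symm hj), zero_comp]
    · intro h; exact absurd (Finset.mem_univ i) h
  rw [← Abelian.Ext.mk₀_id_comp x, ← hsum M, Abelian.Ext.mk₀_sum, Abelian.Ext.sum_comp]
  refine Finset.sum_eq_zero fun j _ => ?_
  have : (Abelian.Ext.mk₀ (Sigma.ι (fun _ : Fin r => M) j)).comp x (zero_add i) = 0 := by
    rw [← Abelian.Ext.comp_mk₀_id ((Abelian.Ext.mk₀ (Sigma.ι (fun _ : Fin r => M) j)).comp x (zero_add i)),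
      ← hsum L, Abelian.Ext.mk₀_sum, Abelian.Ext.comp_sum]
    refine Finset.sum_eq_zero fun l _ => ?_
    rw [← Abelian.Ext.mk₀_comp_mk₀, ← Abelian.Ext.comp_assoc (h₁₂ := add_zero i) (h₂₃ := zero_add 0) (h := by simp),
      Subsingleton.elim (((Abelian.Ext.mk₀ (Sigma.ι (fun _ : Fin r => M) j)).comp x (zero_add i)).comp
        (Abelian.Ext.mk₀ (Sigma.π (fun _ : Fin r => L) l)) (add_zero i)) 0, Abelian.Ext.zero_comp]
  rw [← Abelian.Ext.mk₀_comp_mk₀_assoc, this, Abelian.Ext.comp_zero]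

theorem coker_simple [IsAlgClosed k] {r : ℕ} {P₁ Q₁ Q₂ : (Quad k).Modules}
    (hP₁ : Nonempty (P₁ ≅ ∐ fun _ : Fin r => OO k (-1) (-1)))
    (hQ₁ : Nonempty (Q₁ ≅ ∐ fun _ : Fin r => OO k (-1) 0))
    (hQ₂ : Nonempty (Q₂ ≅ ∐ fun _ : Fin r => OO k 0 (-1)))
    (f : P₁ ⟶ Q₁ ⊞ Q₂) [Mono f]
    (hstab : ∀ (β₁ : Q₁ ≅ Q₁) (β₂ : Q₂ ≅ Q₂) (γ : P₁ ≅ P₁), γ.hom ≫ f = f ≫ biprod.map β₁.hom β₂.hom →
      ∃ c : k, (SheafOfModules.toSheaf _).map β₁.hom = Coh.smulAb Q₁ (Coh.toGlobal (p₁ k ≫ CohB1.ProjSpace.toSpec 1 k) c) ∧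
        (SheafOfModules.toSheaf _).map β₂.hom = Coh.smulAb Q₂ (Coh.toGlobal (p₁ k ≫ CohB1.ProjSpace.toSpec 1 k) c) ∧
        (SheafOfModules.toSheaf _).map γ.hom = Coh.smulAb P₁ (Coh.toGlobal (p₁ k ≫ CohB1.ProjSpace.toSpec 1 k) c))
    (φ : cokernel f ⟶ cokernel f) : ∃ c : k, (SheafOfModules.toSheaf _).map φ =
      Coh.smulAb (cokernel f) (Coh.toGlobal (p₁ k ≫ CohB1.ProjSpace.toSpec 1 k) c) := by
  letI := quadOver k
  haveI : HasExt.{u} (Quad k).Modules := Groth.Agent.ModShf.schemeModulesHasExt _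
  obtain ⟨eP⟩ := hP₁
  obtain ⟨eQ₁⟩ := hQ₁
  obtain ⟨eQ₂⟩ := hQ₂
  have hg : Function.Bijective (Coh.toGlobal (Quad k ↘ Spec (CommRingCat.of k))) := by
    refine AbVarLib.H0Field.bijective_toGlobal ?_
    have h := (finrank_h0_OO k 0 0).2
    rw [Nat.cast_zero, zero_add, one_mul] at h
    rw [← h]
    exact (isoL k (nonempty_OO_zero (k := k)).some 0).finrank_eq.symm
  have hend : ∀ a b : ℤ, ∀ ψ : OO k a b ⟶ OO k a b, ∃ c : k, ψ = c • 𝟙 _ := fun a b =>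
    VBStable.end_scalar hg (cancelOO a b (-a) (-b) (by simp) (by simp))
      (cancelOO (-a) (-b) a b (by simp) (by simp))
  have h12 : ∀ ψ : Q₁ ⟶ Q₂, ψ = 0 := fun ψ => by
    have : Subsingleton (Abelian.Ext Q₁ Q₂ 0) :=
      subsingleton_ext_sum eQ₁ eQ₂ 0 (subsingleton_ext_OO (-1) 0 0 (-1) 0 (h0_OO k (Or.inr (by norm_num))))
    exact (Abelian.Ext.mk₀_bijective _ _).1 (Subsingleton.elim _ _)
  have h21 : ∀ ψ : Q₂ ⟶ Q₁, ψ = 0 := fun ψ => by
    have : Subsingleton (Abelian.Ext Q₂ Q₁ 0) :=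
      subsingleton_ext_sum eQ₂ eQ₁ 0 (subsingleton_ext_OO 0 (-1) (-1) 0 0 (h0_OO k (Or.inl (by norm_num))))
    exact (Abelian.Ext.mk₀_bijective _ _).1 (Subsingleton.elim _ _)
  have hext : Subsingleton (Abelian.Ext (Q₁ ⊞ Q₂) P₁ 1) := by
    have h₁ : Subsingleton (Abelian.Ext Q₁ P₁ 1) := subsingleton_ext_sum eQ₁ eP 1
      (subsingleton_ext_OO (-1) 0 (-1) (-1) 1 (h1_OO k (Or.inr (Or.inr (Or.inl (by norm_num))))))
    have h₂ : Subsingleton (Abelian.Ext Q₂ P₁ 1) := subsingleton_ext_sum eQ₂ eP 1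
      (subsingleton_ext_OO 0 (-1) (-1) (-1) 1 (h1_OO k (Or.inr (Or.inl (by norm_num)))))
    refine subsingleton_of_forall_eq 0 fun x => ?_
    rw [← Abelian.Ext.mk₀_id_comp x, ← biprod.total, Abelian.Ext.mk₀_add, Abelian.Ext.add_comp,
      ← Abelian.Ext.mk₀_comp_mk₀_assoc, ← Abelian.Ext.mk₀_comp_mk₀_assoc,
      Subsingleton.elim ((Abelian.Ext.mk₀ biprod.inl).comp x (zero_add 1)) 0,
      Subsingleton.elim ((Abelian.Ext.mk₀ biprod.inr).comp x (zero_add 1)) 0, Abelian.Ext.comp_zero,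
      Abelian.Ext.comp_zero, add_zero]
  obtain ⟨β, γ, hγ, hφ⟩ := VBStable.exists_lift_coker f f hext φ
  let β₁ := biprod.inl ≫ β ≫ biprod.fst
  let β₂ := biprod.inr ≫ β ≫ biprod.snd
  obtain ⟨t, ht₁, ht₂, ht₃⟩ := ((VBStable.eventually_isIso eQ₁ (hend (-1) 0) β₁).and
    ((VBStable.eventually_isIso eQ₂ (hend 0 (-1)) β₂).and (VBStable.eventually_isIso eP (hend (-1) (-1)) γ))).exists
  have hβ : β + t • 𝟙 _ = biprod.map (β₁ + t • 𝟙 Q₁) (β₂ + t • 𝟙 Q₂) := by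
    apply biprod.hom_ext' <;> apply biprod.hom_ext
    · simp [β₁, Preadditive.comp_add, Preadditive.add_comp]
    · simp [Preadditive.comp_add, Preadditive.add_comp, h12 (biprod.inl ≫ β ≫ biprod.snd)]
    · simp [Preadditive.comp_add, Preadditive.add_comp, h21 (biprod.inr ≫ β ≫ biprod.fst)]
    · simp [β₂, Preadditive.comp_add, Preadditive.add_comp]
  obtain ⟨c, hc₁, hc₂, -⟩ := hstab (asIso (β₁ + t • 𝟙 Q₁)) (asIso (β₂ + t • 𝟙 Q₂)) (asIso (γ + t • 𝟙 P₁)) (by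
    simp only [asIso_hom]
    rw [← hβ, Preadditive.comp_add, Preadditive.add_comp, hγ]
    simp [Linear.smul_comp, Linear.comp_smul])
  have e₁ : β₁ + t • 𝟙 Q₁ = c • 𝟙 Q₁ := by
    rw [KLin.smul_id Q₁ c]
    exact (SheafOfModules.toSheaf (Quad k).ringCatSheaf).map_injective (hc₁.trans rfl)
  have e₂ : β₂ + t • 𝟙 Q₂ = c • 𝟙 Q₂ := by
    rw [KLin.smul_id Q₂ c]
    exact (SheafOfModules.toSheaf (Quad k).ringCatSheaf).map_injective (hc₂.trans rfl)
  have hall : β + t • 𝟙 _ = c • 𝟙 (Q₁ ⊞ Q₂) := by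
    rw [hβ, e₁, e₂]
    apply biprod.hom_ext' <;> apply biprod.hom_ext <;> simp
  refine ⟨c - t, ?_⟩
  rw [VBStable.exists_smul_of_shift f β γ φ hφ t c hall, KLin.smul_id]
  rfl

end Groth.Agent.QuadP1
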